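import Mathlib
import Cfsg.Agent.Lib.Helper70.HH.S3789Defs
import Cfsg.Agent.Lib.Helper54.ThmBAbelian
import Cfsg.Agent.Lib.Helper53.PGroups
import Cfsg.Agent.Lib.Helper87.PGroupFrattini
import Cfsg.Agent.S0029

/-!
# S3789, package (P1) `LemCrit`: the critical `q`-subgroup (helper30)

`lemCrit : Cfsg.Agent.Lib.Helper70.HH89.LemCrit`.
-/

set_option autoImplicit false

namespace Cfsg.Agent.Lib.Helper30.HH89

open Cfsg.Agent.Lib.Helper70.HH89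
open scoped commutatorElement

universe u

section abstract

variable {G : Type u} [Group G]

/-- If `G / Φ` is abelian, `ζ` is an automorphism preserving `Φ` and `G` is generated by the
elements `ζ g * g⁻¹`, then `ζ` acts fixed point freely on `G / Φ`. -/
theorem fpf_of_gen [Finite G] (Φ : Subgroup G) [Φ.Normal] (ζ : G ≃* G)
    (hcomm : ∀ a b : G, a * b * a⁻¹ * b⁻¹ ∈ Φ) (hζ : ∀ c ∈ Φ, ζ c ∈ Φ)
    (hgen : Subgroup.closure {x : G | ∃ g : G, x = ζ g * g⁻¹} = ⊤) :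
    ∀ g : G, ζ g * g⁻¹ ∈ Φ → g ∈ Φ := by
  have hc : ∀ x y : G ⧸ Φ, x * y = y * x := by
    intro x y
    induction x using QuotientGroup.induction_on with | _ a => ?_
    induction y using QuotientGroup.induction_on with | _ b => ?_
    rw [← QuotientGroup.mk_mul, ← QuotientGroup.mk_mul, QuotientGroup.eq]
    have h := hcomm b⁻¹ a⁻¹
    have e : b⁻¹ * a⁻¹ * b⁻¹⁻¹ * a⁻¹⁻¹ = (a * b)⁻¹ * (b * a) := by group
    rwa [e] at h
  let f : G →* G ⧸ Φ := MonoidHom.mk' (fun g => (QuotientGroup.mk (ζ g * g⁻¹) : G ⧸ Φ)) (by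
    intro a b
    show (QuotientGroup.mk (ζ (a * b) * (a * b)⁻¹) : G ⧸ Φ) =
      QuotientGroup.mk (ζ a * a⁻¹) * QuotientGroup.mk (ζ b * b⁻¹)
    have h1 : (QuotientGroup.mk (ζ (a * b) * (a * b)⁻¹) : G ⧸ Φ) =
        QuotientGroup.mk (ζ a) * (QuotientGroup.mk (ζ b * b⁻¹) * QuotientGroup.mk a⁻¹) := by
      rw [← QuotientGroup.mk_mul, ← QuotientGroup.mk_mul, map_mul]
      congr 1
      group
    rw [h1, hc (QuotientGroup.mk (ζ b * b⁻¹)) (QuotientGroup.mk a⁻¹), ← mul_assoc,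
      ← QuotientGroup.mk_mul])
  have hf : ∀ g : G, f g = (QuotientGroup.mk (ζ g * g⁻¹) : G ⧸ Φ) := fun g => rfl
  have hker : Φ ≤ f.ker := by
    intro c hcΦ
    rw [MonoidHom.mem_ker, hf, QuotientGroup.eq_one_iff]
    exact Φ.mul_mem (hζ c hcΦ) (Φ.inv_mem hcΦ)
  let θ : G ⧸ Φ →* G ⧸ Φ := QuotientGroup.lift Φ f hker
  have hθ : ∀ g : G, θ (QuotientGroup.mk g) = f g := fun g => rfl
  have hsurj : Function.Surjective θ := by
    intro x
    induction x using QuotientGroup.induction_on with | _ a => ?_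
    have hle : Subgroup.closure {x : G | ∃ g : G, x = ζ g * g⁻¹} ≤
        (θ.range).comap (QuotientGroup.mk' Φ) := by
      rw [Subgroup.closure_le]
      rintro _ ⟨g, rfl⟩
      exact ⟨QuotientGroup.mk g, rfl⟩
    have ha : a ∈ (θ.range).comap (QuotientGroup.mk' Φ) := hle (hgen ▸ Subgroup.mem_top a)
    exact ha
  have hinj : Function.Injective θ := Finite.injective_iff_surjective.mpr hsurj
  intro g hg
  have h1 : θ (QuotientGroup.mk g) = 1 := by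
    rw [hθ, hf, QuotientGroup.eq_one_iff]
    exact hg
  have h2 : (QuotientGroup.mk g : G ⧸ Φ) = 1 := hinj (h1.trans (map_one θ).symm)
  exact (QuotientGroup.eq_one_iff g).mp h2

end abstract

section ambient

variable {H : Type u} [Group H]

theorem frat_le' (Q : Subgroup H) : frat Q ≤ Q := Subgroup.map_subtype_le _

theorem mem_frat_iff' (Q : Subgroup H) {x : H} (hx : x ∈ Q) :
    x ∈ frat Q ↔ (⟨x, hx⟩ : Q) ∈ frattini Q := by
  unfold frat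
  constructor
  · rintro ⟨y, hy, hyx⟩
    have : y = ⟨x, hx⟩ := Subtype.ext hyx
    rwa [← this]
  · intro h
    exact ⟨_, h, rfl⟩

theorem le_normalizer_of_conj (K B : Subgroup H) (h : ∀ b ∈ B, ∀ g ∈ K, b * g * b⁻¹ ∈ K) :
    B ≤ Subgroup.normalizer (K : Set H) := by
  intro b hb
  rw [Subgroup.mem_normalizer_iff]
  intro w
  constructor
  · exact h b hb w
  · intro hw
    have h1 := h b⁻¹ (B.inv_mem hb) _ hw
    have h2 : b⁻¹ * (b * w * b⁻¹) * b⁻¹⁻¹ = w := by group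
    rwa [h2] at h1

theorem frat_conj_mem (Q : Subgroup H) {b : H} (hb : b ∈ Subgroup.normalizer (Q : Set H))
    {c : H} (hc : c ∈ frat Q) : b * c * b⁻¹ ∈ frat Q := by
  obtain ⟨n, hn, rfl⟩ := hc
  have h1 := Subgroup.characteristic_iff_map_eq.mp (frattini_characteristic (G := Q))
    (Cfsg.Agent.S0029.conjEquiv Q b hb)
  have h2 : (Cfsg.Agent.S0029.conjEquiv Q b hb) n ∈ frattini Q := by
    rw [← h1]; exact ⟨n, hn, rfl⟩
  exact ⟨_, h2, rfl⟩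

theorem le_of_le_sup_frat [Finite H] (Q K : Subgroup H) (hK : K ≤ Q) (h : Q ≤ K ⊔ frat Q) :
    Q ≤ K := by
  have h1 : K.subgroupOf Q ⊔ frattini Q = ⊤ := by
    have h2 : (frat Q).subgroupOf Q = frattini Q := by
      unfold frat Subgroup.subgroupOf
      exact Subgroup.comap_map_eq_self_of_injective Q.subtype_injective _
    rw [← h2, ← Subgroup.subgroupOf_sup hK (frat_le' Q)]
    exact Subgroup.subgroupOf_eq_top.mpr h
  have h3 := frattini_nongenerating h1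
  exact Subgroup.subgroupOf_eq_top.mp h3

theorem conj_closure (T : Set H) (b : H) (h : ∀ x ∈ T, b * x * b⁻¹ ∈ Subgroup.closure T) :
    ∀ x ∈ Subgroup.closure T, b * x * b⁻¹ ∈ Subgroup.closure T := by
  have hle : Subgroup.closure T ≤ (Subgroup.closure T).comap (MulAut.conj b).toMonoidHom := by
    rw [Subgroup.closure_le]
    intro x hx
    exact h x hx
  intro x hx
  exact hle hx

theorem comm_eq_one_of_coprime {p q : ℕ} (hp : p.Prime) (hq : q.Prime) (hpq : q ≠ p) (z g : H)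
    (m n : ℕ) (hz : z ^ p ^ m = 1) (hc : (z * g * z⁻¹ * g⁻¹) ^ q ^ n = 1)
    (hcomm : z * (z * g * z⁻¹ * g⁻¹) = (z * g * z⁻¹ * g⁻¹) * z) : z * g * z⁻¹ * g⁻¹ = 1 := by
  obtain ⟨c, hcdef⟩ : ∃ c, c = z * g * z⁻¹ * g⁻¹ := ⟨_, rfl⟩
  rw [← hcdef] at hc hcomm ⊢
  have hpow : ∀ k : ℕ, z ^ k * g * (z ^ k)⁻¹ = c ^ k * g := by
    intro k
    induction k with
    | zero => simp
    | succ k ih =>
      have hck : z * c ^ k = c ^ k * z := (Commute.pow_right (show Commute z c from hcomm) k).eq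
      calc z ^ (k + 1) * g * (z ^ (k + 1))⁻¹ = z * (z ^ k * g * (z ^ k)⁻¹) * z⁻¹ := by
            rw [pow_succ']; group
        _ = z * (c ^ k * g) * z⁻¹ := by rw [ih]
        _ = (z * c ^ k) * g * z⁻¹ := by group
        _ = c ^ k * (z * g * z⁻¹ * g⁻¹) * g := by rw [hck]; group
        _ = c ^ (k + 1) * g := by rw [← hcdef, ← pow_succ]
  have h1 : c ^ p ^ m = 1 := by
    have h := hpow (p ^ m)
    rw [hz] at h
    simpa using h.symm
  have h2 : orderOf c ∣ p ^ m := orderOf_dvd_of_pow_eq_one h1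
  have h3 : orderOf c ∣ q ^ n := orderOf_dvd_of_pow_eq_one hc
  have h4 : Nat.Coprime (p ^ m) (q ^ n) :=
    Nat.Coprime.pow _ _ ((Nat.coprime_primes hp hq).mpr (Ne.symm hpq))
  have h5 : orderOf c = 1 := Nat.eq_one_of_dvd_coprimes h4 h2 h3
  exact orderOf_eq_one_iff.mp h5

end ambient

section core

variable {H : Type u} [Group H]

theorem crit_core {p q : ℕ} [Fact p.Prime] (hq : q.Prime) (hqp : q ≠ p) [Finite H]
    (B Q : Subgroup H) (hB : IsPGroup p B) (hQ : IsPGroup q Q)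
    (hBQ : ∀ b ∈ B, ∀ g ∈ Q, b * g * b⁻¹ ∈ Q)
    (hmin : ∀ Q₁ : Subgroup H, Q₁ ≤ Q → Q₁ ≠ Q → (∀ b ∈ B, ∀ g ∈ Q₁, b * g * b⁻¹ ∈ Q₁) →
        ∀ a ∈ ⁅B, B⁆, ∀ g ∈ Q₁, a * g = g * a)
    (hnc : ∃ a ∈ ⁅B, B⁆, ∃ g ∈ Q, a * g ≠ g * a) :
    ∃ z : H, z ∈ ⁅B, B⁆ ∧
      (∀ g ∈ Q, z * g * z⁻¹ * g⁻¹ ∈ frat Q → g ∈ frat Q) ∧
      (∃ g ∈ Q, g ∉ frat Q) ∧
      (∀ c ∈ frat Q, ∀ g ∈ Q, c * g = g * c) ∧
      (∀ a ∈ ⁅B, B⁆, ∀ c ∈ frat Q, a * c = c * a) ∧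
      Q ≤ Subgroup.closure {x : H | ∃ g ∈ Q, x = z * g * z⁻¹ * g⁻¹} := by
  have hp : p.Prime := Fact.out
  have : Fact q.Prime := ⟨hq⟩
  have hAB : ⁅B, B⁆ ≤ B := by
    rw [Subgroup.commutator_le]
    intro g₁ h₁ g₂ h₂
    exact B.mul_mem (B.mul_mem (B.mul_mem h₁ h₂) (B.inv_mem h₁)) (B.inv_mem h₂)
  have hBN : B ≤ Subgroup.normalizer (Q : Set H) := le_normalizer_of_conj Q B hBQ
  have hfB : ∀ b ∈ B, ∀ c ∈ frat Q, b * c * b⁻¹ ∈ frat Q :=
    fun b hb c hc => frat_conj_mem Q (hBN hb) hc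
  have hfQ : ∀ g ∈ Q, ∀ c ∈ frat Q, g * c * g⁻¹ ∈ frat Q :=
    fun g hg c hc => frat_conj_mem Q (Subgroup.le_normalizer hg) hc
  -- `A` acts non-trivially on `Q / Φ(Q)`
  have hS5 : ∃ a ∈ ⁅B, B⁆, ∃ g ∈ Q, a * g * a⁻¹ * g⁻¹ ∉ frat Q := by
    by_contra hcon
    push Not at hcon
    obtain ⟨a0, ha0, g0, hg0, hag0⟩ := hnc
    have hcop : (Nat.card (⁅B, B⁆ : Subgroup H)).Coprime (Nat.card (frattini Q)) := by
      obtain ⟨k, hk⟩ := IsPGroup.iff_card.mp (hB.to_le hAB)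
      obtain ⟨m, hm⟩ := IsPGroup.iff_card.mp (hQ.to_subgroup (frattini Q))
      rw [hk, hm]
      exact Nat.Coprime.pow _ _ ((Nat.coprime_primes hp hq).mpr (Ne.symm hqp))
    have h := Cfsg.Agent.S0029.result (⁅B, B⁆) Q (hAB.trans hBN) hcop hcon
    have h1 := Subgroup.mem_centralizer_iff.mp (h ha0) g0 hg0
    exact hag0 h1.symm
  have h8 : ∃ g ∈ Q, g ∉ frat Q := by
    obtain ⟨a1, ha1, g1, hg1, h1⟩ := hS5
    exact ⟨_, Q.mul_mem (hBQ a1 (hAB ha1) g1 hg1) (Q.inv_mem hg1), h1⟩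
  have hfne : frat Q ≠ Q := by
    obtain ⟨g, hg, hgf⟩ := h8
    intro h
    rw [h] at hgf
    exact hgf hg
  have hAf : ∀ a ∈ ⁅B, B⁆, ∀ c ∈ frat Q, a * c = c * a := hmin (frat Q) (frat_le' Q) hfne hfB
  -- the kernel of `B` on `Q / Φ(Q)`
  let KB : Subgroup H :=
    { carrier := {b | b ∈ B ∧ ∀ g ∈ Q, b * g * b⁻¹ * g⁻¹ ∈ frat Q}
      mul_mem' := by
        rintro b b' ⟨hb, hb2⟩ ⟨hb', hb2'⟩
        refine ⟨B.mul_mem hb hb', fun g hg => ?_⟩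
        have e : b * b' * g * (b * b')⁻¹ * g⁻¹ =
            (b * (b' * g * b'⁻¹ * g⁻¹) * b⁻¹) * (b * g * b⁻¹ * g⁻¹) := by group
        rw [e]
        exact (frat Q).mul_mem (hfB b hb _ (hb2' g hg)) (hb2 g hg)
      one_mem' := ⟨B.one_mem, fun g hg => by simp⟩
      inv_mem' := by
        rintro b ⟨hb, hb2⟩
        refine ⟨B.inv_mem hb, fun g hg => ?_⟩
        have hg' : b⁻¹ * g * b ∈ Q := by simpa using hBQ b⁻¹ (B.inv_mem hb) g hg
        have h := (frat Q).inv_mem (hb2 _ hg')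
        have e : (b * (b⁻¹ * g * b) * b⁻¹ * (b⁻¹ * g * b)⁻¹)⁻¹ = b⁻¹ * g * b⁻¹⁻¹ * g⁻¹ := by group
        rwa [e] at h }
  have hKB : ∀ x, x ∈ KB ↔ (x ∈ B ∧ ∀ g ∈ Q, x * g * x⁻¹ * g⁻¹ ∈ frat Q) := fun x => Iff.rfl
  have hKn : (KB.subgroupOf B).Normal := by
    constructor
    rintro ⟨k, hkB⟩ hk ⟨b, hb⟩
    rw [Subgroup.mem_subgroupOf] at hk ⊢
    show b * k * b⁻¹ ∈ KB
    have hk' : k ∈ KB := hk
    rw [hKB] at hk' ⊢
    refine ⟨B.mul_mem (B.mul_mem hb hkB) (B.inv_mem hb), fun g hg => ?_⟩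
    have hg' : b⁻¹ * g * b ∈ Q := by simpa using hBQ b⁻¹ (B.inv_mem hb) g hg
    have h := hfB b hb _ (hk'.2 _ hg')
    have e : b * (k * (b⁻¹ * g * b) * k⁻¹ * (b⁻¹ * g * b)⁻¹) * b⁻¹ =
        b * k * b⁻¹ * g * (b * k * b⁻¹)⁻¹ * g⁻¹ := by group
    rw [e] at h
    exact h
  have hBA : ∀ b ∈ B, ∀ a ∈ ⁅B, B⁆, b * a * b⁻¹ ∈ ⁅B, B⁆ := by
    intro b hb a ha
    have h1 : ⁅b, a⁆ ∈ ⁅B, B⁆ := Subgroup.commutator_mem_commutator hb (hAB ha)
    have e : b * a * b⁻¹ = ⁅b, a⁆ * a := by rw [commutatorElement_def]; group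
    rw [e]
    exact Subgroup.mul_mem _ h1 ha
  have hAn : ((⁅B, B⁆ : Subgroup H).subgroupOf B).Normal := by
    constructor
    rintro ⟨a, haB⟩ ha ⟨b, hb⟩
    rw [Subgroup.mem_subgroupOf] at ha ⊢
    exact hBA b hb a ha
  have hRp : IsPGroup p (↥B ⧸ KB.subgroupOf B) := hB.to_quotient _
  have hDn : (((⁅B, B⁆ : Subgroup H).subgroupOf B).map
      (QuotientGroup.mk' (KB.subgroupOf B))).Normal :=
    Subgroup.Normal.map hAn _ (QuotientGroup.mk'_surjective _)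
  have hDne : ((⁅B, B⁆ : Subgroup H).subgroupOf B).map (QuotientGroup.mk' (KB.subgroupOf B)) ≠
      ⊥ := by
    obtain ⟨a1, ha1, g1, hg1, h1⟩ := hS5
    intro hbot
    have hmem : (QuotientGroup.mk' (KB.subgroupOf B)) ⟨a1, hAB ha1⟩ ∈
        ((⁅B, B⁆ : Subgroup H).subgroupOf B).map (QuotientGroup.mk' (KB.subgroupOf B)) :=
      ⟨_, Subgroup.mem_subgroupOf.mpr ha1, rfl⟩
    rw [hbot, Subgroup.mem_bot] at hmem
    have h2 : (⟨a1, hAB ha1⟩ : B) ∈ KB.subgroupOf B := (QuotientGroup.eq_one_iff _).mp hmem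
    rw [Subgroup.mem_subgroupOf] at h2
    have h3 : a1 ∈ KB := h2
    rw [hKB] at h3
    exact h1 (h3.2 g1 hg1)
  obtain ⟨zb, hzD, hz1, hzc⟩ :=
    Cfsg.Agent.Lib.Helper53.exists_mem_center_of_normal_of_ne_bot hRp _ hDne
  obtain ⟨⟨z, hzB⟩, hzA, rfl⟩ := hzD
  have hzA' : z ∈ ⁅B, B⁆ := Subgroup.mem_subgroupOf.mp hzA
  have hzK : ∃ g ∈ Q, z * g * z⁻¹ * g⁻¹ ∉ frat Q := by
    by_contra hcon
    push Not at hcon
    apply hz1
    apply (QuotientGroup.eq_one_iff _).mpr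
    rw [Subgroup.mem_subgroupOf]
    show z ∈ KB
    rw [hKB]
    exact ⟨hzB, hcon⟩
  have hzcent : ∀ b ∈ B, ∀ g ∈ Q,
      (b * z * b⁻¹ * z⁻¹) * g * (b * z * b⁻¹ * z⁻¹)⁻¹ * g⁻¹ ∈ frat Q := by
    intro b hb g hg
    have h1 := Subgroup.mem_center_iff.mp hzc ((QuotientGroup.mk' (KB.subgroupOf B)) ⟨b, hb⟩)
    have h2 : (QuotientGroup.mk' (KB.subgroupOf B))
        (⟨b, hb⟩ * ⟨z, hzB⟩ * ⟨b, hb⟩⁻¹ * ⟨z, hzB⟩⁻¹) = 1 := by
      rw [map_mul, map_mul, map_mul, map_inv, map_inv, h1]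
      group
    have h3 := (QuotientGroup.eq_one_iff _).mp h2
    rw [Subgroup.mem_subgroupOf] at h3
    have h4 : b * z * b⁻¹ * z⁻¹ ∈ KB := h3
    rw [hKB] at h4
    exact h4.2 g hg
  have hzQ : ∀ g ∈ Q, z * g * z⁻¹ ∈ Q := hBQ z hzB
  obtain ⟨S, hS⟩ : ∃ S : Set H, S = {x : H | ∃ g ∈ Q, x = z * g * z⁻¹ * g⁻¹} := ⟨_, rfl⟩
  have hSmem : ∀ g ∈ Q, z * g * z⁻¹ * g⁻¹ ∈ S := by
    intro g hg
    rw [hS]
    exact ⟨g, hg, rfl⟩
  have hSQ : S ⊆ (Q : Set H) := by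
    rw [hS]
    rintro _ ⟨g, hg, rfl⟩
    exact Q.mul_mem (hzQ g hg) (Q.inv_mem hg)
  have hQm : Q ≤ Subgroup.closure (S ∪ (frat Q : Set H)) := by
    by_contra hcon
    have hle : Subgroup.closure (S ∪ (frat Q : Set H)) ≤ Q := by
      rw [Subgroup.closure_le]
      exact Set.union_subset hSQ (frat_le' Q)
    have hne : Subgroup.closure (S ∪ (frat Q : Set H)) ≠ Q := fun h => hcon (le_of_eq h.symm)
    have hinv : ∀ b ∈ B, ∀ x ∈ Subgroup.closure (S ∪ (frat Q : Set H)),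
        b * x * b⁻¹ ∈ Subgroup.closure (S ∪ (frat Q : Set H)) := by
      intro b hb
      apply conj_closure
      rintro x (hx | hx)
      · rw [hS] at hx
        obtain ⟨g, hg, rfl⟩ := hx
        have hg' : b * g * b⁻¹ ∈ Q := hBQ b hb g hg
        have e : b * (z * g * z⁻¹ * g⁻¹) * b⁻¹ =
            ((b * z * b⁻¹ * z⁻¹) * (z * (b * g * b⁻¹) * z⁻¹) * (b * z * b⁻¹ * z⁻¹)⁻¹ *
              (z * (b * g * b⁻¹) * z⁻¹)⁻¹) *
            (z * (b * g * b⁻¹) * z⁻¹ * (b * g * b⁻¹)⁻¹) := by group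
        rw [e]
        apply Subgroup.mul_mem
        · exact Subgroup.subset_closure (Or.inr (hzcent b hb _ (hzQ _ hg')))
        · exact Subgroup.subset_closure (Or.inl (hSmem _ hg'))
      · exact Subgroup.subset_closure (Or.inr (hfB b hb x hx))
    have hcen := hmin _ hle hne hinv
    obtain ⟨g, hg, hgf⟩ := hzK
    apply hgf
    have h1 : z * g * z⁻¹ * g⁻¹ = 1 := by
      obtain ⟨m, hm⟩ := hB ⟨z, hzB⟩
      have hzm : z ^ p ^ m = 1 := congrArg Subtype.val hm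
      have hcQ : z * g * z⁻¹ * g⁻¹ ∈ Q := hSQ (hSmem g hg)
      obtain ⟨n, hn⟩ := hQ ⟨_, hcQ⟩
      have hcn : (z * g * z⁻¹ * g⁻¹) ^ q ^ n = 1 := congrArg Subtype.val hn
      exact comm_eq_one_of_coprime hp hq hqp z g m n hzm hcn
        (hcen z hzA' _ (Subgroup.subset_closure (Or.inl (hSmem g hg))))
    rw [h1]
    exact (frat Q).one_mem
  have hgenQ : Q ≤ Subgroup.closure S := by
    apply le_of_le_sup_frat Q _ ((Subgroup.closure_le _).mpr hSQ)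
    rw [Subgroup.closure_union, Subgroup.closure_eq] at hQm
    exact hQm
  have h9 : ∀ c ∈ frat Q, ∀ g ∈ Q, c * g = g * c := by
    intro c hc g hg
    have hle : Subgroup.closure S ≤ Subgroup.centralizer ({c} : Set H) := by
      rw [Subgroup.closure_le, hS]
      rintro _ ⟨h, hh, rfl⟩
      rw [SetLike.mem_coe, Subgroup.mem_centralizer_iff]
      intro y hy
      rw [Set.mem_singleton_iff] at hy
      subst hy
      have h1 : z * y = y * z := hAf z hzA' y hc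
      have hc' : h⁻¹ * y * h ∈ frat Q := by simpa using hfQ h⁻¹ (Q.inv_mem hh) y hc
      have h2 : z * (h⁻¹ * y * h) = (h⁻¹ * y * h) * z := hAf z hzA' _ hc'
      have h2' : z⁻¹ * (h⁻¹ * y * h) = (h⁻¹ * y * h) * z⁻¹ :=
        (Commute.inv_left (show Commute z (h⁻¹ * y * h) from h2)).eq
      calc y * (z * h * z⁻¹ * h⁻¹) = (y * z) * h * z⁻¹ * h⁻¹ := by group
        _ = (z * y) * h * z⁻¹ * h⁻¹ := by rw [h1]
        _ = z * h * ((h⁻¹ * y * h) * z⁻¹) * h⁻¹ := by group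
        _ = z * h * (z⁻¹ * (h⁻¹ * y * h)) * h⁻¹ := by rw [h2']
        _ = (z * h * z⁻¹ * h⁻¹) * y := by group
    exact Subgroup.mem_centralizer_iff.mp (hle (hgenQ hg)) c (Set.mem_singleton c)
  have hzN : z ∈ Subgroup.normalizer (Q : Set H) := hBN hzB
  have h7 : ∀ g ∈ Q, z * g * z⁻¹ * g⁻¹ ∈ frat Q → g ∈ frat Q := by
    have hQq : IsPGroup q Q := hQ
    have key := fpf_of_gen (frattini Q) (Cfsg.Agent.S0029.conjEquiv Q z hzN)
      (fun a b => Cfsg.Agent.Lib.Helper87.comm_mem_frattini hQq a b)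
      (fun c hc => by
        have h1 := Subgroup.characteristic_iff_map_eq.mp (frattini_characteristic (G := Q))
          (Cfsg.Agent.S0029.conjEquiv Q z hzN)
        rw [← h1]
        exact ⟨c, hc, rfl⟩)
      (by
        rw [eq_top_iff]
        rintro ⟨x, hx⟩ -
        have hle : Subgroup.closure S ≤ (Subgroup.closure {y : Q | ∃ g : Q,
            y = (Cfsg.Agent.S0029.conjEquiv Q z hzN) g * g⁻¹}).map Q.subtype := by
          rw [Subgroup.closure_le, hS]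
          rintro _ ⟨g, hg, rfl⟩
          exact ⟨_, Subgroup.subset_closure ⟨⟨g, hg⟩, rfl⟩, rfl⟩
        obtain ⟨y, hy, hyx⟩ := hle (hgenQ hx)
        have : y = ⟨x, hx⟩ := Subtype.ext hyx
        rwa [← this])
    intro g hg hgf
    have h1 : (Cfsg.Agent.S0029.conjEquiv Q z hzN) ⟨g, hg⟩ * (⟨g, hg⟩ : Q)⁻¹ ∈ frattini Q :=
      (mem_frat_iff' Q (hSQ (hSmem g hg))).mp hgf
    exact (mem_frat_iff' Q hg).mpr (key ⟨g, hg⟩ h1)
  refine ⟨z, hzA', h7, h8, h9, hAf, ?_⟩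
  rw [hS] at hgenQ
  exact hgenQ

end core

/-- Package (P1) of S3789: the critical `q`-subgroup. -/
theorem lemCrit : LemCrit.{u} := by
  intro p _ H _ _ hsol hOp B hB hA
  classical
  have hAB : ⁅B, B⁆ ≤ B := by
    rw [Subgroup.commutator_le]
    intro g₁ h₁ g₂ h₂
    exact B.mul_mem (B.mul_mem (B.mul_mem h₁ h₂) (B.inv_mem h₁)) (B.inv_mem h₂)
  obtain ⟨y, hyA, hy1⟩ : ∃ y ∈ ⁅B, B⁆, y ≠ 1 := by
    by_contra hcon
    push Not at hcon
    exact hA ((Subgroup.eq_bot_iff_forall _).mpr hcon)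
  obtain ⟨q0, hq0, R, hq0p, hRq, hBR, hyR⟩ :=
    Cfsg.Agent.Lib.Helper54.exists_normalized_not_centralized_of_mem hsol hOp B hB y
      (hAB hyA) hy1
  let P : ℕ → Prop := fun n => ∃ (q : ℕ) (Q : Subgroup H), q.Prime ∧ q ≠ p ∧ IsPGroup q Q ∧
    (∀ b ∈ B, ∀ g ∈ Q, b * g * b⁻¹ ∈ Q) ∧ (∃ a ∈ ⁅B, B⁆, ∃ g ∈ Q, a * g ≠ g * a) ∧
    Nat.card Q = n
  have hex : ∃ n, P n := by
    refine ⟨Nat.card R, q0, R, hq0, hq0p, hRq, ?_, ?_, rfl⟩
    · intro b hb g hg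
      exact (Subgroup.mem_normalizer_iff.mp (hBR hb) g).mp hg
    · rw [Subgroup.mem_centralizer_iff] at hyR
      push Not at hyR
      obtain ⟨g, hg, hne⟩ := hyR
      exact ⟨y, hyA, g, hg, fun h => hne h.symm⟩
  obtain ⟨q, Q, hq, hqp, hQq, hBQ, hnc, hcard⟩ := Nat.find_spec hex
  have hmin : ∀ Q₁ : Subgroup H, Q₁ ≤ Q → Q₁ ≠ Q → (∀ b ∈ B, ∀ g ∈ Q₁, b * g * b⁻¹ ∈ Q₁) →
      ∀ a ∈ ⁅B, B⁆, ∀ g ∈ Q₁, a * g = g * a := by
    intro Q₁ hle hne hinv a ha g hg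
    by_contra hcon
    have hlt : Nat.card Q₁ < Nat.find hex := by
      rw [← hcard]
      by_contra hnlt
      exact hne (Subgroup.eq_of_le_of_card_ge hle (not_lt.mp hnlt))
    exact Nat.find_min hex hlt ⟨q, Q₁, hq, hqp, hQq.to_le hle, hinv, ⟨a, ha, g, hg, hcon⟩, rfl⟩
  obtain ⟨z, hzA, h7, h8, h9, h10, h11⟩ := crit_core hq hqp B Q hB hQq hBQ hmin hnc
  exact ⟨q, Q, z, hq, hqp, hQq, hzA, hBQ, hmin, h7, h8, h9, h10, h11⟩

end Cfsg.Agent.Lib.Helper30.HH89
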